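import Groth.Agent.FunFld1.Constants
import Groth.Agent.Funfld2.LLS.GenusZero
import Mathlib.FieldTheory.IsAlgClosed.Basic

/-! The hypotheses `Good` and `RiemannZero` for function fields over algebraically closed fields. -/

namespace Groth.Funfld2

open FunFld Groth.FunFld1

section Bdd

variable {k K : Type*} [Field k] [Field K] [Algebra k K]

theorem bddAbove_genus_range (hF : Groth.FunFld1.IsFF k K) :
    BddAbove (Set.range fun D : Divisor k K => (D.deg + 1 - (ell D : ℤ)).toNat) := by
  obtain ⟨x, hx, -⟩ := id hF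
  obtain ⟨C, hC, hm⟩ := hF.exists_mul_le_ell hx
  have hA := hF.deg_poleDiv_eq hx
  have := hF.finiteDimensional hx
  set n := Module.finrank (IntermediateField.adjoin k ({x} : Set K)) K with hn
  have hn0 : (0 : ℤ) < n := by exact_mod_cast Module.finrank_pos
  refine ⟨(C.deg + 1 - n).toNat, ?_⟩
  rintro _ ⟨D, rfl⟩
  refine Int.toNat_le_toNat ?_
  set D' := D ⊔ 0 with hD'
  have h1 := hF.ell_sub_le (le_sup_left : D ≤ D')
  set m := D'.deg.toNat with hm'
  set E := m • zeroDiv k x⁻¹ + C with hE
  have hEdeg : E.deg = m * n + C.deg := by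
    rw [hE, Groth.FunFld1.deg_add, Groth.FunFld1.deg_nsmul, hA]
  have hEell : ((m : ℤ) + 1) * n ≤ ell E := by exact_mod_cast hm m
  have hD'0 : 0 ≤ D' := le_sup_right
  have h2 := hF.ell_sub_le (D := E - D') (E := E) (sub_le_self E hD'0)
  rw [Groth.FunFld1.deg_sub] at h2
  have hpos : L (E - D') ≠ ⊥ := by
    intro hb
    have h0 : ell (E - D') = 0 := by rw [ell, hb]; exact finrank_bot k K
    rw [h0] at h2
    have hd := Groth.FunFld1.deg_nonneg hD'0
    have hmd : (m : ℤ) = D'.deg := Int.toNat_of_nonneg hd
    push_cast at h2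
    nlinarith
  obtain ⟨y, hy0, hy⟩ := hF.exists_effective_of_ne_bot hpos
  have hle : D' ≤ E + FunFld.div k y := by
    intro P
    have := hy P
    simp only [Finsupp.coe_zero, Pi.zero_apply, Finsupp.add_apply, Finsupp.sub_apply] at this ⊢
    omega
  have h3 := hF.ell_sub_le hle
  rw [hF.ell_add_div E hy0, Groth.FunFld1.deg_add, hF.deg_div, add_zero, hEdeg] at h3
  nlinarith

end Bdd

variable {k K : Type*} [Field k] [IsAlgClosed k] [Field K] [Algebra k K]

theorem deg_eq_one (hK : IsFunctionField k K) (P : Place k K) : P.deg = 1 := by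
  have hf := (IsFF.of_isFunctionField hK).finiteDimensional_residueField P
  let a : Algebra k (IsLocalRing.ResidueField P.O) := Place.algRes P
  have hfin : @Module.Finite k (IsLocalRing.ResidueField P.O) _ _ a.toModule := by exact hf
  have : @Algebra.IsIntegral k (IsLocalRing.ResidueField P.O) _ _ a :=
    @Algebra.IsIntegral.of_finite k (IsLocalRing.ResidueField P.O) _ _ a hfin
  have h : Function.Bijective (@algebraMap k (IsLocalRing.ResidueField P.O) _ _ a) :=
    IsAlgClosed.algebraMap_bijective_of_isIntegral
  have hr : @Module.finrank k (IsLocalRing.ResidueField P.O) _ _ a.toModule = 1 :=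
    (LinearEquiv.ofBijective (Algebra.linearMap k (IsLocalRing.ResidueField P.O)) h).finrank_eq.symm.trans
      (Module.finrank_self k)
  exact hr

theorem good_of_algClosed (hK : IsFunctionField k K) : Good k K :=
  ⟨deg_eq_one hK, (IsFF.of_isFunctionField hK).finite_support_ord,
    fun x _ => (IsFF.of_isFunctionField hK).deg_div x⟩

omit [IsAlgClosed k] in
theorem riemannZero (hK : IsFunctionField k K) (hg : genus k K = 0) : RiemannZero k K :=
  riemannZero_of_genus_eq_zero hg (bddAbove_genus_range (IsFF.of_isFunctionField hK))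

end Groth.Funfld2
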