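import Groth.Prelude.Def_W4bk4goldsch23FF
import Mathlib.LinearAlgebra.FiniteDimensional.Lemmas
import Mathlib.RingTheory.Valuation.ValuationSubring

/-! Elementary facts about places of degree one and the spaces `L(D)`. -/

open FunFld
open scoped WithZero

namespace Groth.Funfld2

variable {k K : Type*} [Field k] [Field K] [Algebra k K]

/-- All places have degree one, and principal divisors are finite of degree zero: the two facts
about function fields over an algebraically closed field that the linear-series arguments use. -/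
structure Good (k K : Type*) [Field k] [Field K] [Algebra k K] : Prop where
  deg_one : ∀ P : Place k K, P.deg = 1
  finite_ord : ∀ x : K, (Function.support fun P : Place k K => P.ord x).Finite
  deg_div : ∀ x : K, x ≠ 0 → (FunFld.div k x).deg = 0

theorem val_eq_exp_ord (P : Place k K) {x : K} (hx : x ≠ 0) : P.1 x = WithZero.exp (-P.ord x) := by
  simp [Place.ord, WithZero.exp_log, (Valuation.ne_zero_iff P.1).2 hx]

theorem val_le_exp_iff (P : Place k K) {x : K} (hx : x ≠ 0) (n : ℤ) :
    P.1 x ≤ WithZero.exp n ↔ -n ≤ P.ord x := by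
  rw [val_eq_exp_ord P hx, WithZero.exp_le_exp]
  omega

theorem val_lt_one_iff_ord (P : Place k K) {x : K} (hx : x ≠ 0) : P.1 x < 1 ↔ 0 < P.ord x := by
  refine (iff_of_eq (congrArg (P.1 x < ·) WithZero.exp_zero.symm)).trans ?_
  rw [val_eq_exp_ord P hx, WithZero.exp_lt_exp]
  omega

theorem val_le_one_iff_ord (P : Place k K) {x : K} (hx : x ≠ 0) : P.1 x ≤ 1 ↔ 0 ≤ P.ord x := by
  refine (iff_of_eq (congrArg (P.1 x ≤ ·) WithZero.exp_zero.symm)).trans ?_
  rw [val_le_exp_iff P hx]
  omega

theorem exists_const_residue {P : Place k K} (h : P.deg = 1) {z : K} (hz : P.1 z ≤ 1) :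
    ∃ c : k, P.1 (z - algebraMap k K c) < 1 := by
  have hbt : (⊥ : Subalgebra k (IsLocalRing.ResidueField P.O)) = ⊤ :=
    Subalgebra.bot_eq_top_of_finrank_eq_one h
  have : IsLocalRing.residue P.O ⟨z, hz⟩ ∈ (⊥ : Subalgebra k (IsLocalRing.ResidueField P.O)) :=
    hbt ▸ Algebra.mem_top
  obtain ⟨c, hc⟩ := Algebra.mem_bot.1 this
  refine ⟨c, ?_⟩
  have h0 : IsLocalRing.residue P.O (⟨z, hz⟩ - algebraMap k P.O c) = 0 := by
    rw [map_sub, sub_eq_zero]; exact hc.symm
  rw [IsLocalRing.residue_eq_zero_iff, Valuation.mem_maximalIdeal_iff] at h0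
  exact h0

theorem val_algebraMap (P : Place k K) {c : k} (hc : c ≠ 0) : P.1 (algebraMap k K c) = 1 := by
  refine le_antisymm (P.2.1 c) ?_
  have h := P.2.1 c⁻¹
  rw [map_inv₀, map_inv₀] at h
  exact (inv_le_one₀ (zero_lt_iff.2 ((Valuation.ne_zero_iff P.1).2
    ((map_ne_zero _).2 hc)))).1 h

theorem L_mono {D E : Divisor k K} (h : D ≤ E) : L D ≤ L E :=
  fun _ hx P => (hx P).trans (WithZero.exp_le_exp.2 (h P))

theorem mem_L_iff {D : Divisor k K} {x : K} :
    x ∈ L D ↔ ∀ P : Place k K, P.1 x ≤ WithZero.exp (D P) := Iff.rfl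

theorem mem_L_iff_ord {D : Divisor k K} {x : K} (hx : x ≠ 0) :
    x ∈ L D ↔ ∀ P : Place k K, 0 ≤ P.ord x + D P := by
  rw [mem_L_iff]
  refine forall_congr' fun P => ?_
  rw [val_le_exp_iff P hx]
  omega

theorem mem_L_sub_single_iff {D : Divisor k K} {x : K} {P : Place k K} {n : ℤ} (hn : 0 ≤ n) :
    x ∈ L (D - Finsupp.single P n) ↔ x ∈ L D ∧ P.1 x ≤ WithZero.exp (D P - n) := by
  classical
  constructor
  · intro h
    refine ⟨L_mono (sub_le_self D (Finsupp.single_nonneg.2 hn)) h, ?_⟩
    simpa using h P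
  · rintro ⟨h, hP⟩ R
    rw [Finsupp.sub_apply, Finsupp.single_apply]
    split_ifs with e
    · subst e; exact hP
    · rw [sub_zero]; exact h R

theorem deg_add (D E : Divisor k K) : (D + E).deg = D.deg + E.deg := by
  classical
  exact Finsupp.sum_add_index' (fun _ => by simp) (fun _ _ _ => by ring)

theorem deg_single (P : Place k K) (n : ℤ) : Divisor.deg (Finsupp.single P n) = n * P.deg := by
  simp [Divisor.deg]

theorem deg_zero' : Divisor.deg (0 : Divisor k K) = 0 := by simp [Divisor.deg]

theorem deg_sub (D E : Divisor k K) : (D - E).deg = D.deg - E.deg := by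
  have := deg_add (D - E) E
  rw [sub_add_cancel] at this
  omega

theorem deg_nonneg {D : Divisor k K} (h : 0 ≤ D) : 0 ≤ D.deg :=
  Finset.sum_nonneg fun P _ => mul_nonneg (h P) (Int.natCast_nonneg _)

variable (hG : Good k K)
include hG

theorem div_apply (x : K) (P : Place k K) : FunFld.div k x P = P.ord x := by
  rw [FunFld.div, dif_pos (hG.finite_ord x)]
  rfl

theorem eq_zero_of_nonneg_of_deg {D : Divisor k K} (h : 0 ≤ D) (hd : D.deg ≤ 0) : D = 0 := by
  ext P
  by_contra hP
  have hmem : P ∈ D.support := Finsupp.mem_support_iff.2 hP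
  have hterm : D P * (P.deg : ℤ) ≤ D.deg :=
    Finset.single_le_sum (f := fun P => D P * (P.deg : ℤ))
      (fun R _ => mul_nonneg (h R) (Int.natCast_nonneg _)) hmem
  rw [hG.deg_one P] at hterm
  have := h P
  simp only [Finsupp.coe_zero, Pi.zero_apply] at this hP
  omega

theorem div_add_nonneg {D : Divisor k K} {x : K} (hx : x ∈ L D) (hx0 : x ≠ 0) :
    0 ≤ FunFld.div k x + D := fun P => by
  rw [Finsupp.add_apply, div_apply hG]
  exact (mem_L_iff_ord hx0).1 hx P

theorem L_eq_bot {D : Divisor k K} (h : D.deg < 0) : L D = ⊥ := by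
  rw [eq_bot_iff]
  intro x hx
  by_contra hx0
  have h2 := deg_nonneg (div_add_nonneg hG hx hx0)
  rw [deg_add, hG.deg_div x hx0] at h2
  omega

omit hG in
theorem exists_le_sup_span_singleton {D : Divisor k K} {P : Place k K} (hP : P.deg = 1) :
    ∃ f : K, f ∈ L D ∧ L D ≤ L (D - Finsupp.single P 1) ⊔ Submodule.span k {f} := by
  by_cases h : L D ≤ L (D - Finsupp.single P 1)
  · exact ⟨0, zero_mem _, le_sup_of_le_left h⟩
  obtain ⟨f, hf, hf'⟩ := SetLike.not_le_iff_exists.1 h
  refine ⟨f, hf, fun g hg => ?_⟩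
  have hf0 : f ≠ 0 := fun e => hf' (e ▸ zero_mem _)
  rw [mem_L_sub_single_iff zero_le_one] at hf'
  have hford : P.ord f = -D P := by
    have h1 := (mem_L_iff_ord hf0).1 hf P
    have h2 : ¬ P.1 f ≤ WithZero.exp (D P - 1) := fun e => hf' ⟨hf, e⟩
    rw [val_le_exp_iff P hf0] at h2
    omega
  have hfv : P.1 f = WithZero.exp (D P) := by rw [val_eq_exp_ord P hf0, hford, neg_neg]
  have hq : P.1 (g / f) ≤ 1 := by
    rw [map_div₀, hfv]
    exact div_le_one_of_le₀ (hg P) WithZero.exp_pos.le
  obtain ⟨c, hc⟩ := exists_const_residue hP hq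
  have hmem : g - c • f ∈ L (D - Finsupp.single P 1) := by
    rw [mem_L_sub_single_iff zero_le_one]
    refine ⟨sub_mem hg (Submodule.smul_mem _ c hf), ?_⟩
    have heq : g - c • f = f * (g / f - algebraMap k K c) := by
      rw [Algebra.smul_def]; field_simp
    have hlt : P.1 (g - c • f) < WithZero.exp (D P) := by
      rw [heq, map_mul, hfv]
      exact mul_lt_of_lt_one_right WithZero.exp_pos hc
    by_cases h0 : g - c • f = 0
    · simp [h0]
    · rw [val_le_exp_iff P h0]
      rw [val_eq_exp_ord P h0, WithZero.exp_lt_exp] at hlt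
      omega
  rw [← sub_add_cancel g (c • f)]
  exact add_mem (Submodule.mem_sup_left hmem)
    (Submodule.mem_sup_right (Submodule.smul_mem _ c (Submodule.mem_span_singleton_self f)))

theorem finiteDimensional_L_of_place (P : Place k K) (D : Divisor k K) :
    FiniteDimensional k (L D) := by
  suffices ∀ m : ℕ, ∀ D : Divisor k K, D.deg < m → FiniteDimensional k (L D) from
    this (D.deg + 1).toNat D (by omega)
  intro m
  induction m with
  | zero => intro D hD; rw [L_eq_bot hG (by omega)]; infer_instance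
  | succ m ih =>
    intro D hD
    obtain ⟨f, -, hle⟩ := exists_le_sup_span_singleton (D := D) (hG.deg_one P)
    have := ih (D - Finsupp.single P 1)
      (by rw [deg_sub, deg_single, hG.deg_one P]; omega)
    exact Submodule.finiteDimensional_of_le hle

end Groth.Funfld2
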